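import Cfsg.Agent.H806.KB.Fin
import Cfsg.Agent.BpCl.Rows
import Cfsg.Agent.H952.RcSp
import Cfsg.Agent.LieClassical.OrthFinite
import Cfsg.Agent.H590.RankSum
import Cfsg.Agent.H508.KB.Defs
import Cfsg.Prelude.Def_LieTypeChar

/-!
# S4822, task KB3: `PSp_2m(q)` in cross characteristic (helper806)

`psp_of_core` : `p ≤ k(B₀(PSp_2m(q)))` from the elements of helper418's `core`.
-/

set_option autoImplicit false

open Cfsg Module Subgroup

namespace Cfsg.Agent.H806.KB

open Cfsg.Agent.H418.KB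
open Cfsg.Agent.BpCl (Iso mem_Iso)
open Cfsg.Agent.ClassicalGeometry.SympBasic Cfsg.Agent.ClassicalGeometry.SympAutSemi
  Cfsg.Agent.ClassicalGeometry.SympGamma

universe u

/-- the isometries of a nondegenerate alternating form -/
theorem spl_alt {F V : Type*} [Field F] [AddCommGroup V] [Module F V] {B : V →ₗ[F] V →ₗ[F] F} (h0 : ∀ v, B v v = 0)
    (hnd : ∀ u, (∀ v, B u v = 0) → u = 0) : Spl B (Iso fun u v => B u v) where
  sgn := Or.inr h0
  nd := hnd
  pres := fun _ hg => hg
  split := by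
    intro g hg g' U W hUW hB hgU hU hW a b
    have hs : ∀ u v, B u v = - B v u := by
      intro u v
      have h1 := h0 (u + v)
      rw [map_add, map_add, LinearMap.add_apply, LinearMap.add_apply, h0 u, h0 v, zero_add, add_zero] at h1
      rw [eq_neg_iff_add_eq_zero, add_comm]
      exact h1
    obtain ⟨u1, hu1, w1, hw1, rfl⟩ := Submodule.mem_sup.1 (show a ∈ U ⊔ W by rw [hUW]; trivial)
    obtain ⟨u2, hu2, w2, hw2, rfl⟩ := Submodule.mem_sup.1 (show b ∈ U ⊔ W by rw [hUW]; trivial)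
    change B (g' (u1 + w1)) (g' (u2 + w2)) = B (u1 + w1) (u2 + w2)
    rw [map_add g', map_add g', hU u1 hu1, hU u2 hu2, hW w1 hw1, hW w2 hw2]
    simp only [map_add, LinearMap.add_apply]
    rw [hB u1 hu1 w2 hw2, hB (g u1) (hgU u1 hu1) w2 hw2, hs w1 u2, hB u2 hu2 w1 hw1, hs w1 (g u2),
      hB (g u2) (hgU u2 hu2) w1 hw1]
    have h1 : B (g u1) (g u2) = B u1 u2 := hg u1 u2
    rw [h1]
  full := fun _ _ _ hc _ _ _ _ => hc

section symp

variable (m : ℕ) (F : Type*) [Field F]

/-- the symplectic group as a group of linear automorphisms -/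
abbrev Gam : Subgroup ((Fin m ⊕ Fin m → F) ≃ₗ[F] (Fin m ⊕ Fin m → F)) := Iso fun u v => sympBilin m F u v

theorem range_spLin : (Cfsg.Agent.BpCl.spLin m F).range = Gam m F := by
  apply le_antisymm
  · rintro _ ⟨A, rfl⟩ u v
    exact sympForm_rho A u v
  · intro h hh
    obtain ⟨A, hA⟩ := exists_rho_eq h.toEquiv (fun u v => map_add h u v) (fun a v => map_smul h a v)
      (fun u v => hh u v)
    refine ⟨A, ?_⟩
    apply LinearEquiv.ext
    intro v
    rw [Cfsg.Agent.BpCl.spLin_apply, hA]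
    rfl

noncomputable def eSp : ↥(Matrix.symplecticGroup (Fin m) F) ≃* ↥(Gam m F) :=
  (MonoidHom.ofInjective Cfsg.Agent.BpCl.spLin_injective).trans (MulEquiv.subgroupCongr (range_spLin m F))

variable {m F}

theorem sq_center_Gam {z : ↥(Gam m F)} (hz : z ∈ center ↥(Gam m F)) : z ^ 2 = 1 := by
  have h1 : (eSp m F).symm z ∈ center ↥(Matrix.symplecticGroup (Fin m) F) := by
    rw [mem_center_iff]
    intro g
    apply (eSp m F).injective
    rw [map_mul, map_mul, (eSp m F).apply_symm_apply]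
    exact mem_center_iff.1 hz _
  have h2 := Cfsg.Agent.H952.Rc.sq_center h1
  rw [← map_pow] at h2
  have h3 := congrArg (eSp m F) h2
  rwa [(eSp m F).apply_symm_apply, map_one] at h3

theorem not_dvd_center_Gam [Finite F] {p : ℕ} [hp : Fact p.Prime] (h2 : 2 < p) : ¬ p ∣ Nat.card (center ↥(Gam m F)) := by
  have hfin : Finite ↥(Gam m F) := Finite.of_equiv _ (eSp m F).toEquiv
  intro h
  obtain ⟨z, hz⟩ := exists_prime_orderOf_dvd_card' (G := center ↥(Gam m F)) p h
  have h3 : z ^ 2 = 1 := Subtype.ext (by simpa using sq_center_Gam z.2)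
  have h4 := orderOf_dvd_of_pow_eq_one h3
  rw [hz] at h4
  exact absurd (Nat.le_of_dvd two_pos h4) (by omega)

end symp

section row

variable {F : Type} [Field F] [Fintype F] {m : ℕ} {p : ℕ} [Fact p.Prime] {M : Ideal AlgInt}

theorem psp_of_core (hM : IsPModular p M) (h2 : 2 < p) (hpF : (p : F) ≠ 0)
    {x y : (Fin m ⊕ Fin m → F) ≃ₗ[F] (Fin m ⊕ Fin m → F)} (h : Core p (Gam m F) x y) :
    p ≤ Nat.card (principalBlock M (PSp m F)) := by
  have hG : Spl (sympBilin m F) (Gam m F) :=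
    spl_alt (fun v => sympForm_self v) fun u hu => eq_zero_of_forall_sympForm_right hu
  have h1 := kB_of_core hM hG hpF h (center ↥(Gam m F)) (not_dvd_center_Gam h2)
  rw [H590.RankSum.card_congr (Cfsg.Agent.LieClassical.OrthFinite.quotientCenterCongr (eSp m F)).symm] at h1
  exact h1

/-- the Sylow `p`-subgroups of `PSp` are not cyclic, hence a Sylow `p`-subgroup of the symplectic group is not cyclic -/
theorem exists_noncyclic {S : Type u} [Group S] [Finite S] (e : S ≃* PSp m F)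
    (hP : ∀ P : Sylow p S, ¬ IsCyclic (P : Subgroup S)) :
    ∃ P : Subgroup ((Fin m ⊕ Fin m → F) ≃ₗ[F] (Fin m ⊕ Fin m → F)), P ≤ Gam m F ∧ IsPGroup p P ∧ ¬ IsCyclic P := by
  have hfin : Finite ↥(Gam m F) := Finite.of_equiv _ (eSp m F).toEquiv
  obtain ⟨P⟩ : Nonempty (Sylow p ↥(Gam m F)) := inferInstance
  refine ⟨(P : Subgroup ↥(Gam m F)).map (Gam m F).subtype, ?_, P.2.map _, fun hc => ?_⟩
  · rintro _ ⟨g, -, rfl⟩
    exact g.2
  · let φ : ↥(Gam m F) →* S := (((Cfsg.Agent.LieClassical.OrthFinite.quotientCenterCongr (eSp m F)).symm.trans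
      e.symm).toMonoidHom).comp (QuotientGroup.mk' (center ↥(Gam m F)))
    have hφ : Function.Surjective φ :=
      (((Cfsg.Agent.LieClassical.OrthFinite.quotientCenterCongr (eSp m F)).symm.trans e.symm).surjective).comp
        (QuotientGroup.mk'_surjective _)
    have hc' : IsCyclic (P : Subgroup ↥(Gam m F)) :=
      isCyclic_of_injective (((P : Subgroup ↥(Gam m F)).equivMapOfInjective _ (Gam m F).subtype_injective).toMonoidHom)
        (MulEquiv.injective _)
    apply hP (P.mapSurjective hφ)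
    rw [Sylow.coe_mapSurjective]
    exact isCyclic_of_surjective _ (φ.subgroupMap_surjective (P : Subgroup ↥(Gam m F)))

end row

/-- **S4822, KB3** from the existence of the elements of `core` -/
theorem kb_psp_of {p : ℕ} [Fact p.Prime] {M : Ideal AlgInt}
    (hcore : ∀ (F V : Type) [Field F] [Fintype F] [AddCommGroup V] [Module F V] [FiniteDimensional F V]
      (B : V →ₗ[F] V →ₗ[F] F) (G : Subgroup (V ≃ₗ[F] V)), Spl B G → ¬ p ∣ Fintype.card F →
      ∀ P : Subgroup (V ≃ₗ[F] V), P ≤ G → IsPGroup p P → ¬ IsCyclic P → ∃ x y, Core p G x y)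
    {S : Type u} [Group S] [Finite S] [IsSimpleGroup S]
    {r : ℕ} [Fact r.Prime] (hrp : r ≠ p) (h11 : 11 ≤ p) (hM : IsPModular p M) (h : IsPSpChar r S)
    (hP : ∀ P : Sylow p S, ¬ IsCyclic (P : Subgroup S)) : p ≤ H508.KB.kB M S := by
  have hp : p.Prime := Fact.out
  have hr : r.Prime := Fact.out
  obtain ⟨F, _, _, hch, m, -, -, ⟨e⟩⟩ := h
  have hpF : (p : F) ≠ 0 := by
    intro h0
    rw [CharP.cast_eq_zero_iff F r] at h0
    exact hrp ((Nat.prime_dvd_prime_iff_eq hr hp).1 h0)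
  have hpq : ¬ p ∣ Fintype.card F := by
    obtain ⟨f, -, hf⟩ := FiniteField.card F r
    rw [hf]
    intro h0
    exact hrp ((Nat.prime_dvd_prime_iff_eq hp hr).1 (hp.dvd_of_dvd_pow h0)).symm
  unfold H508.KB.kB
  rw [H590.RankSum.card_congr e]
  obtain ⟨P, hPG, hPp, hPc⟩ := exists_noncyclic e hP
  obtain ⟨x, y, hxy⟩ := hcore F (Fin m ⊕ Fin m → F) (sympBilin m F) (Gam m F)
    (spl_alt (fun v => sympForm_self v) fun u hu => eq_zero_of_forall_sympForm_right hu) hpq P hPG hPp hPc
  exact psp_of_core hM (by omega) hpF hxy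

end Cfsg.Agent.H806.KB
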