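import Cfsg.Agent.H734.KB.Exp
import Cfsg.Agent.H418.KB.Defs

/-!
# S4822, task KB3: the end of the proof for groups of isometries (helper806)

`Core p G x y` : the elements constructed in helper418's `core`; `kB_of_core` : then `p ≤ k(B₀(G / N))` for every normal
`p'`-subgroup `N` of `G` (`G` a finite group of isometries closed under orthogonal splitting).
-/

set_option autoImplicit false

open Cfsg Module Subgroup

namespace Cfsg.Agent.H806.KB

open Cfsg.Agent.H418.KB

section avg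

variable {F V : Type*} [Field F] [AddCommGroup V] [Module F V] {p : ℕ}

theorem one_ap (v : V) : (1 : V ≃ₗ[F] V) v = v := rfl

/-- the projection onto the fixed vectors -/
noncomputable def avg (p : ℕ) (x : V ≃ₗ[F] V) : V →ₗ[F] V :=
  (p : F)⁻¹ • ∑ i ∈ Finset.range p, ((x ^ i : V ≃ₗ[F] V) : V →ₗ[F] V)

theorem avg_apply (x : V ≃ₗ[F] V) (v : V) : avg p x v = (p : F)⁻¹ • ∑ i ∈ Finset.range p, (x ^ i) v := by
  unfold avg
  rw [LinearMap.smul_apply, LinearMap.sum_apply]
  rfl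

theorem smul_avg (hpF : (p : F) ≠ 0) (x : V ≃ₗ[F] V) (v : V) :
    (p : F) • avg p x v = ∑ i ∈ Finset.range p, (x ^ i) v := by
  rw [avg_apply, smul_smul, mul_inv_cancel₀ hpF, one_smul]

theorem avg_fix {x : V ≃ₗ[F] V} (hx : x ^ p = 1) (v : V) : x (avg p x v) = avg p x v := by
  rw [avg_apply, map_smul, map_sum]
  congr 1
  have h1 : ∑ i ∈ Finset.range p, x ((x ^ i) v) = ∑ i ∈ Finset.range p, (x ^ (i + 1)) v :=
    Finset.sum_congr rfl fun i _ => by rw [pow_succ', LinearEquiv.mul_apply]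
  rw [h1]
  have h2 := Finset.sum_range_succ (fun i => (x ^ i) v) p
  rw [Finset.sum_range_succ', hx, pow_zero] at h2
  exact add_right_cancel h2

theorem pow_fix {x : V ≃ₗ[F] V} {v : V} (h : x v = v) (i : ℕ) : (x ^ i) v = v := by
  induction i with
  | zero => rfl
  | succ i ih => rw [pow_succ, LinearEquiv.mul_apply, h, ih]

theorem avg_of_fix (hpF : (p : F) ≠ 0) {x : V ≃ₗ[F] V} {v : V} (h : x v = v) : avg p x v = v := by
  rw [avg_apply, Finset.sum_congr rfl fun i _ => pow_fix h i, Finset.sum_const, Finset.card_range,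
    ← Nat.cast_smul_eq_nsmul F, smul_smul, inv_mul_cancel₀ hpF, one_smul]

theorem avg_avg (hpF : (p : F) ≠ 0) {x : V ≃ₗ[F] V} (hx : x ^ p = 1) (v : V) : avg p x (avg p x v) = avg p x v :=
  avg_of_fix hpF (avg_fix hx v)

theorem avg_comm {x g : V ≃ₗ[F] V} (h : g * x = x * g) (v : V) : avg p x (g v) = g (avg p x v) := by
  rw [avg_apply, avg_apply, map_smul, map_sum]
  congr 1
  refine Finset.sum_congr rfl fun i _ => ?_
  have h1 : g * x ^ i = x ^ i * g := by
    have h2 : Commute g x := h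
    exact h2.pow_right i
  rw [← LinearEquiv.mul_apply, ← h1, LinearEquiv.mul_apply]

theorem triv_of (hpF : (p : F) ≠ 0) {x y : V ≃ₗ[F] V} (hy : ∀ v, y (x v - v) = x v - v) (v : V) :
    y (v - avg p x v) = v - avg p x v := by
  have h1 : ∀ i : ℕ, y (v - (x ^ i) v) = v - (x ^ i) v := by
    intro i
    induction i with
    | zero => rw [pow_zero, one_ap, sub_self, map_zero]
    | succ i ih =>
      have h2 : v - (x ^ (i + 1)) v = (v - (x ^ i) v) - (x ((x ^ i) v) - (x ^ i) v) := by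
        rw [pow_succ', LinearEquiv.mul_apply]
        abel
      rw [h2, map_sub, ih, hy]
  have h2 : (p : F) • (v - avg p x v) = ∑ i ∈ Finset.range p, (v - (x ^ i) v) := by
    rw [smul_sub, smul_avg hpF, Finset.sum_sub_distrib, Finset.sum_const, Finset.card_range, Nat.cast_smul_eq_nsmul]
  have h3 : (p : F) • y (v - avg p x v) = (p : F) • (v - avg p x v) := by
    rw [← map_smul, h2, map_sum]
    exact Finset.sum_congr rfl fun i _ => h1 i
  have h4 := congrArg (fun w => (p : F)⁻¹ • w) h3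
  simpa [smul_smul, inv_mul_cancel₀ hpF] using h4

/-- the part of `g` on the fixed vectors of `x` -/
noncomputable def part (hpF : (p : F) ≠ 0) {x : V ≃ₗ[F] V} (hx : x ^ p = 1) :
    ↥(centralizer ({x} : Set (V ≃ₗ[F] V))) →* (V ≃ₗ[F] V) where
  toFun g :=
    { toFun := fun v => g.1 (avg p x v) + (v - avg p x v)
      invFun := fun v => g.1⁻¹ (avg p x v) + (v - avg p x v)
      map_add' := fun u v => by simp only [map_add]; abel
      map_smul' := fun a v => by simp only [map_smul, smul_add, smul_sub, RingHom.id_apply]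
      left_inv := fun v => by
        have hg : g.1 * x = x * g.1 := mem_centralizer_singleton_iff.1 g.2
        have h1 : avg p x (g.1 (avg p x v) + (v - avg p x v)) = g.1 (avg p x v) := by
          rw [map_add, avg_comm hg, avg_avg hpF hx, map_sub, avg_avg hpF hx, sub_self, add_zero]
        change g.1⁻¹ (avg p x (g.1 (avg p x v) + (v - avg p x v))) +
          ((g.1 (avg p x v) + (v - avg p x v)) - avg p x (g.1 (avg p x v) + (v - avg p x v))) = v
        rw [h1, add_sub_cancel_left, ← LinearEquiv.mul_apply, inv_mul_cancel, one_ap]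
        abel
      right_inv := fun v => by
        have hg : g.1⁻¹ * x = x * g.1⁻¹ := mem_centralizer_singleton_iff.1 (inv_mem g.2)
        have h1 : avg p x (g.1⁻¹ (avg p x v) + (v - avg p x v)) = g.1⁻¹ (avg p x v) := by
          rw [map_add, avg_comm hg, avg_avg hpF hx, map_sub, avg_avg hpF hx, sub_self, add_zero]
        change g.1 (avg p x (g.1⁻¹ (avg p x v) + (v - avg p x v))) +
          ((g.1⁻¹ (avg p x v) + (v - avg p x v)) - avg p x (g.1⁻¹ (avg p x v) + (v - avg p x v))) = v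
        rw [h1, add_sub_cancel_left, ← LinearEquiv.mul_apply, mul_inv_cancel, one_ap]
        abel }
  map_one' := by
    apply LinearEquiv.ext
    intro v
    change avg p x v + (v - avg p x v) = v
    abel
  map_mul' g h := by
    apply LinearEquiv.ext
    intro v
    have hh : h.1 * x = x * h.1 := mem_centralizer_singleton_iff.1 h.2
    have h1 : avg p x (h.1 (avg p x v) + (v - avg p x v)) = h.1 (avg p x v) := by
      rw [map_add, avg_comm hh, avg_avg hpF hx, map_sub, avg_avg hpF hx, sub_self, add_zero]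
    change g.1 (h.1 (avg p x v)) + (v - avg p x v) = g.1 (avg p x (h.1 (avg p x v) + (v - avg p x v))) +
          ((h.1 (avg p x v) + (v - avg p x v)) - avg p x (h.1 (avg p x v) + (v - avg p x v)))
    rw [h1, add_sub_cancel_left]

theorem part_apply (hpF : (p : F) ≠ 0) {x : V ≃ₗ[F] V} (hx : x ^ p = 1)
    (g : ↥(centralizer ({x} : Set (V ≃ₗ[F] V)))) (v : V) : part hpF hx g v = g.1 (avg p x v) + (v - avg p x v) := rfl

/-- `part g` is trivial on `[V, x]` -/
theorem part_triv (hpF : (p : F) ≠ 0) {x : V ≃ₗ[F] V} (hx : x ^ p = 1)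
    (g : ↥(centralizer ({x} : Set (V ≃ₗ[F] V)))) (v : V) : part hpF hx g (x v - v) = x v - v := by
  have h1 : avg p x (x v - v) = 0 := by
    rw [map_sub, avg_comm rfl, avg_fix hx, sub_self]
  rw [part_apply, h1, map_zero, zero_add, sub_zero]

theorem part_eq (hpF : (p : F) ≠ 0) {x : V ≃ₗ[F] V} (hx : x ^ p = 1)
    (g : ↥(centralizer ({x} : Set (V ≃ₗ[F] V)))) (hg : ∀ v, g.1 (x v - v) = x v - v) : part hpF hx g = g.1 := by
  apply LinearEquiv.ext
  intro v
  have h1 : g.1 (avg p x v) + (v - avg p x v) = g.1 (avg p x v) + g.1 (v - avg p x v) := by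
    rw [triv_of hpF hg v]
  rw [part_apply, h1, ← map_add, add_sub_cancel]

variable {B : V →ₗ[F] V →ₗ[F] F} {G : Subgroup (V ≃ₗ[F] V)}

theorem orth_of (hG : Spl B G) (hpF : (p : F) ≠ 0) {x : V ≃ₗ[F] V} (hxG : x ∈ G) {u w : V} (hu : x u = u)
    (hw : avg p x w = 0) : B u w = 0 := by
  have h1 : ∀ i : ℕ, B u ((x ^ i) w) = B u w := by
    intro i
    have h2 := hG.pres (x ^ i) (pow_mem hxG i) u w
    rwa [pow_fix hu] at h2
  have h2 : (p : F) * B u w = 0 := by
    have h3 : B u (∑ i ∈ Finset.range p, (x ^ i) w) = 0 := by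
      rw [← smul_avg hpF, hw, smul_zero, map_zero]
    rw [map_sum, Finset.sum_congr rfl fun i _ => h1 i, Finset.sum_const, Finset.card_range, nsmul_eq_mul] at h3
    exact h3
  exact (mul_eq_zero.1 h2).resolve_left hpF

theorem part_mem (hG : Spl B G) (hpF : (p : F) ≠ 0) {x : V ≃ₗ[F] V} (hx : x ^ p = 1) (hxG : x ∈ G)
    (g : ↥(centralizer ({x} : Set (V ≃ₗ[F] V)))) (hg : g.1 ∈ G) : part hpF hx g ∈ G := by
  have hgx : g.1 * x = x * g.1 := mem_centralizer_singleton_iff.1 g.2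
  refine hG.split g.1 hg (part hpF hx g) (LinearMap.ker ((x : V →ₗ[F] V) - LinearMap.id)) (LinearMap.ker (avg p x))
    ?_ ?_ ?_ ?_ ?_
  · rw [eq_top_iff]
    intro v _
    rw [Submodule.mem_sup]
    refine ⟨avg p x v, ?_, v - avg p x v, ?_, by abel⟩
    · rw [LinearMap.mem_ker, LinearMap.sub_apply, LinearMap.id_apply, LinearEquiv.coe_coe, avg_fix hx, sub_self]
    · rw [LinearMap.mem_ker, map_sub, avg_avg hpF hx, sub_self]
  · intro u hu w hw
    rw [LinearMap.mem_ker, LinearMap.sub_apply, LinearMap.id_apply, LinearEquiv.coe_coe, sub_eq_zero] at hu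
    exact orth_of hG hpF hxG hu (LinearMap.mem_ker.1 hw)
  · intro u hu
    rw [LinearMap.mem_ker, LinearMap.sub_apply, LinearMap.id_apply, LinearEquiv.coe_coe, sub_eq_zero] at hu ⊢
    rw [← LinearEquiv.mul_apply, ← hgx, LinearEquiv.mul_apply, hu]
  · intro u hu
    rw [LinearMap.mem_ker, LinearMap.sub_apply, LinearMap.id_apply, LinearEquiv.coe_coe, sub_eq_zero] at hu
    rw [part_apply, avg_of_fix hpF hu, sub_self, add_zero]
  · intro w hw
    rw [part_apply, LinearMap.mem_ker.1 hw, map_zero, zero_add, sub_zero]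

/-- the elements of `G` trivial on `[V, x]` commute with `x` -/
theorem comm_of_triv (hG : Spl B G) {x y : V ≃ₗ[F] V} (hxG : x ∈ G) (hyG : y ∈ G)
    (hy : ∀ v, y (x v - v) = x v - v) : y ∈ centralizer ({x} : Set (V ≃ₗ[F] V)) := by
  have h1 : ∀ v, x (y v - v) = y v - v := by
    intro v
    have h2 : ∀ w, B (y v - v) (x w) = B (y v - v) w := by
      intro w
      have h3 : B (y v) (x w - w) = B v (x w - w) := by
        conv_lhs => rw [← hy w]
        rw [hG.pres y hyG]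
      have h4 : B (y v - v) (x w - w) = 0 := by
        rw [map_sub B, LinearMap.sub_apply, h3, sub_self]
      rw [map_sub, sub_eq_zero] at h4
      exact h4
    have h3 : y v - v - x (y v - v) = 0 := by
      apply hG.nd
      intro w
      have h4 := hG.pres x hxG (y v - v) (x⁻¹ w)
      have h5 : x (x⁻¹ w) = w := x.apply_symm_apply w
      rw [h5] at h4
      have h6 := h2 (x⁻¹ w)
      rw [h5] at h6
      rw [map_sub B, LinearMap.sub_apply, h4, h6, sub_self]
    exact (sub_eq_zero.1 h3).symm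
  rw [mem_centralizer_singleton_iff]
  apply LinearEquiv.ext
  intro v
  rw [LinearEquiv.mul_apply, LinearEquiv.mul_apply]
  have h2 := h1 v
  have h3 := hy v
  rw [map_sub] at h2 h3
  rw [sub_eq_iff_eq_add] at h2 h3
  rw [h2, h3]
  abel

end avg

/-- the elements constructed by helper418's `core` -/
structure Core {F V : Type*} [Field F] [Fintype F] [AddCommGroup V] [Module F V] (p : ℕ) (G : Subgroup (V ≃ₗ[F] V))
    (x y : V ≃ₗ[F] V) : Prop where
  hx : x ∈ G
  hy : y ∈ G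
  xp : x ^ p = 1
  x1 : x ≠ 1
  yp : y ^ p = 1
  y1 : y ≠ 1
  yx : ∀ v, y (x v - v) = x v - v
  fus : ∀ (g : V ≃ₗ[F] V) (i : ℕ), g * x * g⁻¹ = x ^ i → ∃ j : ℕ, (i : ZMod p) = (Fintype.card F : ZMod p) ^ j ∨
    (i : ZMod p) = -(Fintype.card F : ZMod p) ^ j
  cyc : ∀ R : Subgroup (V ≃ₗ[F] V), R ≤ G → IsPGroup p R → (∀ g ∈ R, ∀ v, g (x v - v) = x v - v) → IsCyclic R
  c1 : ∃ c ∈ G, (∀ v, c (x v - v) = x v - v) ∧ c * y * c⁻¹ = y ^ Fintype.card F
  c2 : ∃ c ∈ G, (∀ v, c (x v - v) = x v - v) ∧ c * y * c⁻¹ = y⁻¹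

section core

universe u

variable {F : Type*} {V : Type u} [Field F] [Fintype F] [AddCommGroup V] [Module F V] {B : V →ₗ[F] V →ₗ[F] F}
  {G : Subgroup (V ≃ₗ[F] V)} {p : ℕ} [Fact p.Prime] {M : Ideal AlgInt}

/-- a conjugating element for each exponent `± q ^ j` -/
theorem exists_conj {x y : V ≃ₗ[F] V} (h : Core p G x y) {i j : ℕ}
    (hi : (i : ZMod p) = (Fintype.card F : ZMod p) ^ j ∨ (i : ZMod p) = -(Fintype.card F : ZMod p) ^ j) :
    ∃ c ∈ G, (∀ v, c (x v - v) = x v - v) ∧ c * y * c⁻¹ = y ^ i := by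
  obtain ⟨c, hc, hcv, hcy⟩ := h.c1
  obtain ⟨d, hd, hdv, hdy⟩ := h.c2
  have h1 : ∀ j : ℕ, c ^ j ∈ G ∧ (∀ v, (c ^ j) (x v - v) = x v - v) ∧ c ^ j * y * (c ^ j)⁻¹ = y ^ (Fintype.card F ^ j) := by
    intro j
    induction j with
    | zero => exact ⟨by rw [pow_zero]; exact one_mem _, fun v => rfl, by simp⟩
    | succ j ih =>
      refine ⟨by rw [pow_succ]; exact mul_mem ih.1 hc, fun v => ?_, ?_⟩
      · rw [pow_succ, LinearEquiv.mul_apply, hcv, ih.2.1]
      · have h2 : c ^ (j + 1) * y * (c ^ (j + 1))⁻¹ = c * (c ^ j * y * (c ^ j)⁻¹) * c⁻¹ := by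
          rw [pow_succ']; group
        rw [h2, ih.2.2, ← conj_pow, hcy, ← pow_mul, pow_succ']
  have hord : orderOf y = p := orderOf_eq_prime h.yp h.y1
  rcases hi with hi | hi
  · refine ⟨c ^ j, (h1 j).1, (h1 j).2.1, ?_⟩
    rw [(h1 j).2.2, pow_eq_pow_iff_modEq, hord, ← ZMod.natCast_eq_natCast_iff, Nat.cast_pow, hi]
  · refine ⟨d * c ^ j, mul_mem hd (h1 j).1, fun v => ?_, ?_⟩
    · rw [LinearEquiv.mul_apply, (h1 j).2.1, hdv]
    · have h2 : d * c ^ j * y * (d * c ^ j)⁻¹ = d * (c ^ j * y * (c ^ j)⁻¹) * d⁻¹ := by group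
      rw [h2, (h1 j).2.2, ← conj_pow, hdy, inv_pow, inv_eq_iff_mul_eq_one, ← pow_add, ← orderOf_dvd_iff_pow_eq_one,
        hord, ← ZMod.natCast_eq_zero_iff, Nat.cast_add, Nat.cast_pow, hi, add_neg_cancel]

/-- **the end of the proof for groups of isometries closed under splitting** -/
theorem kB_of_core [Finite V] (hM : IsPModular p M) (hG : Spl B G) (hpF : (p : F) ≠ 0) {x y : V ≃ₗ[F] V}
    (h : Core p G x y) (N : Subgroup ↥G) [N.Normal] (hN : ¬ p ∣ Nat.card N) :
    p ≤ Nat.card (principalBlock M (↥G ⧸ N)) := by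
  have hfin : Finite (V ≃ₗ[F] V) := Finite.of_injective (fun e : V ≃ₗ[F] V => (e : V → V)) DFunLike.coe_injective
  let z : ↥G := ⟨x, h.hx⟩
  have hz : orderOf z = p := by
    rw [Subgroup.orderOf_mk]
    exact orderOf_eq_prime h.xp h.x1
  let Q : Subgroup (V ≃ₗ[F] V) :=
    { carrier := {g | g ∈ G ∧ ∀ v, g (x v - v) = x v - v}
      one_mem' := ⟨one_mem _, fun _ => rfl⟩
      mul_mem' := fun {a b} ha hb => ⟨mul_mem ha.1 hb.1, fun v => by rw [LinearEquiv.mul_apply, hb.2, ha.2]⟩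
      inv_mem' := fun {a} ha => ⟨inv_mem ha.1, fun v => by
        have h1 := congrArg (fun w => a⁻¹ w) (ha.2 v)
        have h2 : a⁻¹ (a (x v - v)) = x v - v := a.symm_apply_apply _
        exact (h1.symm.trans h2)⟩ }
  have hQ : ∀ g : V ≃ₗ[F] V, g ∈ Q ↔ g ∈ G ∧ ∀ v, g (x v - v) = x v - v := fun g => Iff.rfl
  let j : ↥(centralizer ({z} : Set ↥G)) →* ↥(centralizer ({x} : Set (V ≃ₗ[F] V))) :=
    { toFun := fun g => ⟨g.1.1, by
        rw [mem_centralizer_singleton_iff]
        exact congrArg Subtype.val (mem_centralizer_singleton_iff.1 g.2)⟩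
      map_one' := rfl
      map_mul' := fun _ _ => rfl }
  let f : ↥(centralizer ({z} : Set ↥G)) →* ↥Q :=
    ((part hpF h.xp).comp j).codRestrict Q fun g =>
      ⟨part_mem hG hpF h.xp h.hx (j g) g.1.2, part_triv hpF h.xp (j g)⟩
  have hf : ∀ (g : V ≃ₗ[F] V) (hg : g ∈ Q), (⟨g, hg⟩ : ↥Q) ∈ f.range := by
    intro g hg
    have hgc := comm_of_triv hG h.hx hg.1 hg.2
    refine ⟨⟨⟨g, hg.1⟩, ?_⟩, ?_⟩
    · rw [mem_centralizer_singleton_iff]
      exact Subtype.ext (mem_centralizer_singleton_iff.1 hgc)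
    · apply Subtype.ext
      exact part_eq hpF h.xp ⟨g, hgc⟩ hg.2
  refine Cfsg.Agent.H734.KB.crit_exp_quot hM N hN hz f ?_ (u := ⟨y, h.hy, h.yx⟩) (hf y ⟨h.hy, h.yx⟩) ?_ ?_
  · intro R hR
    have h1 := h.cyc (R.map Q.subtype) ?_ (hR.map _) ?_
    · exact isCyclic_of_injective ((R.equivMapOfInjective _ Q.subtype_injective).toMonoidHom) (MulEquiv.injective _)
    · rintro _ ⟨g, -, rfl⟩
      exact g.2.1
    · rintro _ ⟨g, -, rfl⟩
      exact g.2.2
  · exact (Subgroup.orderOf_mk y _).trans (orderOf_eq_prime h.yp h.y1)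
  · intro i hi
    obtain ⟨g, hg⟩ := isConj_iff.1 hi
    obtain ⟨k, hk⟩ := h.fus g.1 i (congrArg Subtype.val hg)
    obtain ⟨c, hc, hcv, hcy⟩ := exists_conj h hk
    exact ⟨⟨c, hc, hcv⟩, hf c ⟨hc, hcv⟩, Subtype.ext hcy⟩

end core

end Cfsg.Agent.H806.KB
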