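import Cfsg.Agent.H806.KB.SpRow
import Cfsg.Agent.H418.KB.CoreFull

/-!
# S4822, task KB3: `PSp_2m(q)` in cross characteristic (helper806)
-/

set_option autoImplicit false

open Cfsg Module Subgroup

namespace Cfsg.Agent.H806.KB

universe u

/-- **S4822, KB3** -/
theorem kb_psp {p : ℕ} [Fact p.Prime] {M : Ideal AlgInt} {S : Type u} [Group S] [Finite S] [IsSimpleGroup S]
    {r : ℕ} [Fact r.Prime] (hrp : r ≠ p) (h11 : 11 ≤ p) (hM : IsPModular p M) (h : IsPSpChar r S)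
    (hP : ∀ P : Sylow p S, ¬ IsCyclic (P : Subgroup S)) : p ≤ H508.KB.kB M S := by
  refine kb_psp_of ?_ hrp h11 hM h hP
  intro F V _ _ _ _ _ B G hG hpF P hPG hPp hPc
  exact Cfsg.Agent.H418.KB.core hG Fact.out (by omega) hpF hPG hPp hPc

end Cfsg.Agent.H806.KB
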